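import Mathlib
import Cfsg.Agent.OddIndex.Pronormal

/-!
Pronormality of all overgroups of Sylow `p`-subgroups, passed through a normal subgroup `A`.
-/

set_option autoImplicit false

namespace Cfsg.Agent.Structure.OvergroupPronormal

open Cfsg.Agent.OddIndex
open scoped Pointwise

variable {G : Type*} [Group G]

/-- Every subgroup containing a Sylow `p`-subgroup is pronormal. -/
def AllPronormal (p : ℕ) (G : Type*) [Group G] : Prop :=
  ∀ K : Subgroup G, (∃ P : Sylow p G, (P : Subgroup G) ≤ K) → Cfsg.IsPronormal K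

theorem map_conj_one (H : Subgroup G) : H.map (MulAut.conj (1 : G)).toMonoidHom = H := by
  ext; simp

theorem mem_normalizer_of_map_eq {H : Subgroup G} {g x : G}
    (h : H.map (MulAut.conj g).toMonoidHom = H.map (MulAut.conj x).toMonoidHom) :
    x⁻¹ * g ∈ Subgroup.normalizer (H : Set G) := by
  rw [Subgroup.mem_normalizer_iff_map_conj_eq]
  change H.map (MulAut.conj (x⁻¹ * g)).toMonoidHom = H
  rw [map_conj_mul, h, ← map_conj_mul, inv_mul_cancel, map_conj_one]

theorem map_eq_of_mem_normalizer {H : Subgroup G} {n : G}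
    (h : n ∈ Subgroup.normalizer (H : Set G)) : H.map (MulAut.conj n).toMonoidHom = H :=
  Subgroup.mem_normalizer_iff_map_conj_eq.1 h

theorem map_map_conj {G' : Type*} [Group G'] (f : G →* G') (H : Subgroup G) (z : G) :
    (H.map (MulAut.conj z).toMonoidHom).map f = (H.map f).map (MulAut.conj (f z)).toMonoidHom := by
  rw [Subgroup.map_map, Subgroup.map_map]
  congr 1
  ext y
  simp

/-- If `x ∈ ⟨K, K^g⟩` and `K` is conjugate to `K^(x⁻¹g)` inside their join, the same holds for `g`. -/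
theorem descend (K : Subgroup G) {g x : G} (hx : x ∈ K ⊔ K.map (MulAut.conj g).toMonoidHom)
    (h : ∃ y ∈ K ⊔ K.map (MulAut.conj (x⁻¹ * g)).toMonoidHom,
      K.map (MulAut.conj (x⁻¹ * g)).toMonoidHom = K.map (MulAut.conj y).toMonoidHom) :
    ∃ z ∈ K ⊔ K.map (MulAut.conj g).toMonoidHom,
      K.map (MulAut.conj g).toMonoidHom = K.map (MulAut.conj z).toMonoidHom := by
  obtain ⟨y, hy, he⟩ := h
  have hle : K ⊔ K.map (MulAut.conj (x⁻¹ * g)).toMonoidHom ≤ K ⊔ K.map (MulAut.conj g).toMonoidHom := by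
    refine sup_le le_sup_left ?_
    rw [map_conj_mul]
    rintro _ ⟨z, hz, rfl⟩
    simpa using mul_mem (mul_mem (inv_mem hx)
      (Subgroup.mem_sup_right (S := K) hz)) hx
  refine ⟨x * y, mul_mem hx (hle hy), ?_⟩
  rw [map_conj_mul K x y, ← he, ← map_conj_mul, mul_inv_cancel_left]

theorem pronormal_subgroupOf {K N : Subgroup G} (hKN : K ≤ N) (h : Cfsg.IsPronormal K) :
    Cfsg.IsPronormal (K.subgroupOf N) := by
  intro a
  have e : ∀ z : N, ((K.subgroupOf N).map (MulAut.conj z).toMonoidHom).map N.subtype =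
      K.map (MulAut.conj (z : G)).toMonoidHom := by
    intro z
    rw [map_map_conj, Subgroup.map_subgroupOf_eq_of_le hKN, Subgroup.coe_subtype]
  obtain ⟨w, hw, hwe⟩ := h (a : G)
  have hw' : w ∈ ((K.subgroupOf N) ⊔ (K.subgroupOf N).map (MulAut.conj a).toMonoidHom).map N.subtype := by
    rw [Subgroup.map_sup, e, Subgroup.map_subgroupOf_eq_of_le hKN]; exact hw
  obtain ⟨w', hw', rfl⟩ := hw'
  exact ⟨w', hw', Subgroup.map_injective N.subtype_injective (by rw [e, e]; exact hwe)⟩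

variable [Finite G] {p : ℕ} [Fact p.Prime] (A : Subgroup G) [A.Normal] (T : Subgroup G)

section

variable (P : Sylow p ↥A) (hP : (P : Subgroup ↥A).map A.subtype = T)
include hP

theorem T_le : T ≤ A := hP ▸ Subgroup.map_subtype_le _

theorem T_pgroup : IsPGroup p T := hP ▸ P.2.map _

theorem T_max {Q : Subgroup G} (hQA : Q ≤ A) (hQ : IsPGroup p Q) (hTQ : T ≤ Q) : Q = T := by
  have h : (Q.subgroupOf A) = P := P.3 (hQ.comap_subtype) (by
    intro a ha
    exact hTQ (hP ▸ Subgroup.mem_map_of_mem _ ha))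
  rw [← hP, ← h, Subgroup.map_subgroupOf_eq_of_le hQA]

/-- A Sylow subgroup of `G` above `T`. -/
theorem exists_sylow_above : ∃ S : Sylow p G, T ≤ S ∧
    (S : Subgroup G) ≤ Subgroup.normalizer (T : Set G) := by
  obtain ⟨S, hS⟩ := (T_pgroup A T P hP).exists_le_sylow
  have hc : ∀ s ∈ (S : Subgroup G), ∀ n ∈ (S : Subgroup G), s * n * s⁻¹ ∈ (S : Subgroup G) :=
    fun s hs n hn => (S : Subgroup G).mul_mem ((S : Subgroup G).mul_mem hs hn)
      ((S : Subgroup G).inv_mem hs)
  have e : (S : Subgroup G) ⊓ A = T :=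
    T_max A T P hP inf_le_right (S.2.to_le inf_le_left) (le_inf hS (T_le A T P hP))
  refine ⟨S, hS, fun s hs => ?_⟩
  rw [Subgroup.mem_normalizer_iff]
  intro n
  rw [← e]
  constructor
  · rintro ⟨h1, h2⟩
    exact ⟨hc s hs n h1, ‹A.Normal›.conj_mem n h2 s⟩
  · rintro ⟨h1, h2⟩
    refine ⟨?_, ?_⟩
    · have := hc s⁻¹ ((S : Subgroup G).inv_mem hs) _ h1
      simp only [mul_assoc, inv_inv, inv_mul_cancel, mul_one, inv_mul_cancel_left] at this
      exact this
    · have := ‹A.Normal›.conj_mem _ h2 s⁻¹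
      simpa [mul_assoc] using this

/-- Frattini argument inside a subgroup of `A` containing `T`. -/
theorem frattini {B : Subgroup G} (hBA : B ≤ A) (hTB : T ≤ B) {g : G}
    (hg : T.map (MulAut.conj g).toMonoidHom ≤ B) :
    ∃ u ∈ B, u⁻¹ * g ∈ Subgroup.normalizer (T : Set G) := by
  have mk : ∀ R : Subgroup G, R ≤ B → IsPGroup p R →
      (∀ Q : Subgroup G, Q ≤ A → IsPGroup p Q → R ≤ Q → Q = R) →
      ∃ S : Sylow p B, (S : Subgroup B).map B.subtype = R := by
    intro R hR hRp hmax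
    refine ⟨⟨R.subgroupOf B, hRp.comap_subtype, fun {Q} hQ hle => ?_⟩,
      Subgroup.map_subgroupOf_eq_of_le hR⟩
    have h1 := hmax (Q.map B.subtype) ((Subgroup.map_subtype_le Q).trans hBA) (hQ.map _)
      (by rw [← Subgroup.map_subgroupOf_eq_of_le hR]; exact Subgroup.map_mono hle)
    rw [← h1, Subgroup.subgroupOf, Subgroup.comap_map_eq_self_of_injective B.subtype_injective]
  obtain ⟨S₁, hS₁⟩ := mk T hTB (T_pgroup A T P hP) (fun Q h1 h2 h3 => T_max A T P hP h1 h2 h3)
  obtain ⟨S₂, hS₂⟩ := mk (T.map (MulAut.conj g).toMonoidHom) hg ((T_pgroup A T P hP).map _) (by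
    intro Q h1 h2 h3
    have h4 : Q.map (MulAut.conj g⁻¹).toMonoidHom = T := by
      refine T_max A T P hP ?_ (h2.map _) ?_
      · rintro _ ⟨q, hq, rfl⟩
        exact ‹A.Normal›.conj_mem q (h1 hq) g⁻¹
      · have := Subgroup.map_mono (f := (MulAut.conj g⁻¹).toMonoidHom) h3
        rwa [← map_conj_mul, inv_mul_cancel, map_conj_one] at this
    rw [← h4, ← map_conj_mul, mul_inv_cancel, map_conj_one])
  obtain ⟨u, hu⟩ := MulAction.exists_smul_eq B S₁ S₂
  refine ⟨u, u.2, mem_normalizer_of_map_eq ?_⟩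
  rw [← hS₂, ← hu, ← hS₁, Sylow.coe_subgroup_smul]
  rw [show (MulAut.conj u : MulAut B) • (S₁ : Subgroup B) =
    (S₁ : Subgroup B).map (MulAut.conj u).toMonoidHom from rfl, map_map_conj]
  rfl

theorem normalizer_quotient_all [(T.subgroupOf (Subgroup.normalizer (T : Set G))).Normal]
    (h : AllPronormal p G) :
    AllPronormal p (↥(Subgroup.normalizer (T : Set G)) ⧸
      T.subgroupOf (Subgroup.normalizer (T : Set G))) := by
  rintro K ⟨R, hR⟩
  obtain ⟨S, -, hSN⟩ := exists_sylow_above A T P hP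
  set N := Subgroup.normalizer (T : Set G)
  set π := QuotientGroup.mk' (T.subgroupOf N)
  have hsur : Function.Surjective π := QuotientGroup.mk'_surjective _
  refine pronormal_map π hsur K ?_
  have hi : ¬ p ∣ ((K.comap π).map N.subtype).index := by
    rw [Subgroup.index_map_subtype, Subgroup.index_comap_of_surjective _ hsur,
      Nat.Prime.dvd_mul Fact.out]
    rintro (h1 | h1)
    · exact R.not_dvd_index (h1.trans (Subgroup.index_dvd_of_le hR))
    · exact S.not_dvd_index (h1.trans (Subgroup.index_dvd_of_le hSN))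
  have := pronormal_subgroupOf (Subgroup.map_subtype_le _)
    (h _ (exists_sylow_le _ hi))
  rwa [Subgroup.subgroupOf, Subgroup.comap_map_eq_self_of_injective N.subtype_injective] at this

end

omit [Fact p.Prime] in
theorem normalizer_map_eq (h : AllPronormal p G) (K : Subgroup G)
    (hK : ∃ S : Sylow p G, (S : Subgroup G) ≤ K) :
    (Subgroup.normalizer (K : Set G)).map (QuotientGroup.mk' A) =
      Subgroup.normalizer ((K.map (QuotientGroup.mk' A) : Subgroup (G ⧸ A)) : Set (G ⧸ A)) := by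
  refine le_antisymm ?_ fun z hz => ?_
  · rintro _ ⟨n, hn, rfl⟩
    rw [Subgroup.mem_normalizer_iff_map_conj_eq]
    change (K.map (QuotientGroup.mk' A)).map (MulAut.conj (QuotientGroup.mk' A n)).toMonoidHom = _
    rw [← map_map_conj, map_eq_of_mem_normalizer hn]
  obtain ⟨g, rfl⟩ := QuotientGroup.mk'_surjective A z
  obtain ⟨x, hx, he⟩ := h K hK g
  have hx' := Subgroup.mem_map_of_mem (QuotientGroup.mk' A) hx
  rw [Subgroup.map_sup, map_map_conj, map_eq_of_mem_normalizer hz, sup_idem] at hx'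
  obtain ⟨k, hk, hkx⟩ := hx'
  refine ⟨k * (x⁻¹ * g), mul_mem (Subgroup.le_normalizer hk) (mem_normalizer_of_map_eq he), ?_⟩
  rw [map_mul _ k, hkx, ← map_mul, mul_inv_cancel_left]

/-- The main implication. -/
theorem allPronormal_of (hA : AllPronormal p ↥A) (hQ : AllPronormal p (G ⧸ A))
    (hT : ∃ P : Sylow p ↥A, (P : Subgroup ↥A).map A.subtype = T)
    [(T.subgroupOf (Subgroup.normalizer (T : Set G))).Normal]
    (hi : AllPronormal p (↥(Subgroup.normalizer (T : Set G)) ⧸
      T.subgroupOf (Subgroup.normalizer (T : Set G))))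
    (hii : ∀ K : Subgroup G, (∃ S : Sylow p G, (S : Subgroup G) ≤ K) →
      (Subgroup.normalizer (K : Set G)).map (QuotientGroup.mk' A) =
        Subgroup.normalizer ((K.map (QuotientGroup.mk' A) : Subgroup (G ⧸ A)) : Set (G ⧸ A))) :
    AllPronormal p G := by
  obtain ⟨P, hP⟩ := hT
  obtain ⟨S, hTS, hSN⟩ := exists_sylow_above A T P hP
  suffices H : ∀ K : Subgroup G, (S : Subgroup G) ≤ K → Cfsg.IsPronormal K by
    rintro K ⟨S', hS'⟩
    obtain ⟨g, hg⟩ := MulAction.exists_smul_eq G S' S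
    have e : K.comap (MulAut.conj g⁻¹).toMonoidHom = K.map (MulAut.conj g).toMonoidHom := by
      rw [Subgroup.map_equiv_eq_comap_symm']
      congr 1
      ext; simp
    refine pronormal_map (MulAut.conj g⁻¹).toMonoidHom (MulAut.conj g⁻¹).surjective K ?_
    rw [e]
    refine H _ ?_
    rw [← hg, Sylow.coe_subgroup_smul]
    exact Subgroup.map_mono hS'
  intro K hK g
  have hTK : T ≤ K := hTS.trans hK
  -- pass to the quotient
  set π := QuotientGroup.mk' A
  obtain ⟨xb, hxb, hxe⟩ := hQ (K.map π) ⟨S.mapSurjective (QuotientGroup.mk'_surjective A),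
    Subgroup.map_mono hK⟩ (π g)
  rw [← map_map_conj, ← Subgroup.map_sup] at hxb
  obtain ⟨x, hx, rfl⟩ := hxb
  refine descend K hx ?_
  have hn := mem_normalizer_of_map_eq hxe
  rw [← map_inv, ← map_mul, ← hii K ⟨S, hK⟩] at hn
  obtain ⟨n, hn, hne⟩ := hn
  have ha : (x⁻¹ * g) * n⁻¹ ∈ A := by
    rw [← QuotientGroup.eq_one_iff]
    show π ((x⁻¹ * g) * n⁻¹) = 1
    rw [map_mul π _ n⁻¹, map_inv, hne, mul_inv_cancel]
  generalize ha' : (x⁻¹ * g) * n⁻¹ = a at ha
  have hga : x⁻¹ * g = a * n := by rw [← ha']; group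
  rw [hga, map_conj_mul, map_eq_of_mem_normalizer hn]
  clear hga ha' hne hn hxe hx hii x g n
  -- pronormality inside `A`
  have hKA : (K ⊓ A : Subgroup G) ≤ A := inf_le_right
  obtain ⟨y, hy, hye⟩ := hA ((K ⊓ A).subgroupOf A) ⟨P, fun z hz =>
    ⟨hTK (hP ▸ Subgroup.mem_map_of_mem _ hz), z.2⟩⟩ ⟨a, ha⟩
  have hy' := Subgroup.mem_map_of_mem A.subtype hy
  rw [Subgroup.map_sup, map_map_conj, Subgroup.map_subgroupOf_eq_of_le hKA] at hy'
  have hyL : (y : G) ∈ K ⊔ K.map (MulAut.conj a).toMonoidHom :=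
    sup_le_sup inf_le_left (Subgroup.map_mono inf_le_left) hy'
  refine descend K hyL ?_
  have hb : ((y : G)⁻¹ * a) ∈ Subgroup.normalizer ((K ⊓ A : Subgroup G) : Set G) := by
    have := congr_arg (Subgroup.map A.subtype) hye
    rw [map_map_conj, map_map_conj, Subgroup.map_subgroupOf_eq_of_le hKA] at this
    exact mem_normalizer_of_map_eq this
  generalize ((y : G)⁻¹ * a) = b at hb ⊢
  -- move `b` into `N(T)`
  obtain ⟨u, hu, hub⟩ := frattini A T P hP hKA (le_inf hTK (T_le A T P hP)) (g := b) (by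
    rw [← map_eq_of_mem_normalizer hb]
    exact Subgroup.map_mono (le_inf hTK (T_le A T P hP)))
  refine descend K (Subgroup.mem_sup_left hu.1) ?_
  have hc : u⁻¹ * b ∈ Subgroup.normalizer ((K ⊓ A : Subgroup G) : Set G) :=
    mul_mem (inv_mem (Subgroup.le_normalizer hu)) hb
  generalize u⁻¹ * b = c at hub hc ⊢
  -- pronormality in `N(T)/T`
  set N := Subgroup.normalizer (T : Set G) with hN
  set ρ := QuotientGroup.mk' (T.subgroupOf N)
  obtain ⟨zb, hzb, hze⟩ := hi (((K ⊓ N).subgroupOf N).map ρ)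
    ⟨(S.subtype hSN).mapSurjective (QuotientGroup.mk'_surjective _), by
      refine Subgroup.map_mono fun z hz => ?_
      exact ⟨hK hz, z.2⟩⟩ (ρ ⟨c, hub⟩)
  rw [← map_map_conj, ← Subgroup.map_sup] at hzb
  obtain ⟨z, hz, rfl⟩ := hzb
  have hd := mem_normalizer_of_map_eq hze
  rw [← map_inv, ← map_mul] at hd
  have hd' := map_eq_of_mem_normalizer hd
  rw [← map_map_conj, Subgroup.map_eq_map_iff, QuotientGroup.ker_mk'] at hd'
  have hT1 : T.subgroupOf N ≤ (K ⊓ N).subgroupOf N := fun t ht => ⟨hTK ht, t.2⟩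
  have hdN : ∀ k ∈ (K ⊓ N : Subgroup G),
      ((z : G)⁻¹ * c) * k * ((z : G)⁻¹ * c)⁻¹ ∈ (K ⊓ N : Subgroup G) := by
    intro k hk
    have h1 : (MulAut.conj (z⁻¹ * ⟨c, hub⟩) ⟨k, hk.2⟩ : N) ∈ (K ⊓ N).subgroupOf N := by
      rw [sup_eq_left.2 hT1] at hd'
      rw [← hd']
      exact Subgroup.mem_sup_left (Subgroup.mem_map_of_mem _ hk)
    exact h1
  have hz' := Subgroup.mem_map_of_mem N.subtype hz
  rw [Subgroup.map_sup, map_map_conj, Subgroup.map_subgroupOf_eq_of_le inf_le_right] at hz'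
  have hzL : (z : G) ∈ K ⊔ K.map (MulAut.conj c).toMonoidHom :=
    sup_le_sup inf_le_left (Subgroup.map_mono inf_le_left) hz'
  have hKn : K ≤ Subgroup.normalizer ((K ⊓ A : Subgroup G) : Set G) := by
    intro k hk
    rw [Subgroup.mem_normalizer_iff_map_conj_eq]
    refine map_conj_eq_self _ fun t ht => ⟨K.mul_mem (K.mul_mem hk ht.1) (K.inv_mem hk), ?_⟩
    exact ‹A.Normal›.conj_mem t ht.2 k
  have hzA : (z : G) ∈ Subgroup.normalizer ((K ⊓ A : Subgroup G) : Set G) := by
    refine sup_le hKn ?_ hzL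
    rintro _ ⟨k, hk, rfl⟩
    exact mul_mem (mul_mem hc (hKn hk)) (inv_mem hc)
  refine ⟨z, hzL, ?_⟩
  have hfix : K.map (MulAut.conj ((z : G)⁻¹ * c)).toMonoidHom = K := by
    refine map_conj_eq_self _ fun k hk => ?_
    obtain ⟨v, hv, hvk⟩ := frattini A T P hP hKA (le_inf hTK (T_le A T P hP)) (g := k) (by
      rw [← map_eq_of_mem_normalizer (hKn hk)]
      exact Subgroup.map_mono (le_inf hTK (T_le A T P hP)))
    have h1 : ((z : G)⁻¹ * c) * v * ((z : G)⁻¹ * c)⁻¹ ∈ (K ⊓ A : Subgroup G) :=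
      (Subgroup.mem_normalizer_iff.1 (mul_mem (inv_mem hzA) hc) v).1 hv
    have h2 := hdN _ ⟨K.mul_mem (K.inv_mem hv.1) hk, hvk⟩
    have := K.mul_mem h1.1 h2.1
    convert this using 1
    group
  conv_rhs => rw [← hfix]
  rw [← map_conj_mul, mul_inv_cancel_left]

end Cfsg.Agent.Structure.OvergroupPronormal
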